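import Groth.Agent.DAlg.RFTriangle
import Groth.Agent.CohDerRlim.ProductD
import Mathlib.Algebra.Homology.ConcreteCategory
import Mathlib.Algebra.Category.Grp.Abelian
import Mathlib.Algebra.Homology.ShortComplex.Ab

/-!
# Cohomology of total right derived functors of products
-/

set_option autoImplicit false
set_option linter.style.haveILetI false
set_option backward.isDefEq.respectTransparency false
set_option backward.defeqAttrib.useBackward true

universe w₁ w₂ v u

open CategoryTheory CategoryTheory.Limits DerivedCategory HomologicalComplex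

namespace Groth.RFTrunc

section Homology

variable {C : CochainComplex AddCommGrpCat.{v} ℤ}

lemma exists_cycle (i : ℤ) (x : C.homology i) :
    ∃ z : C.cycles i, C.homologyπ i z = x :=
  (AddCommGrpCat.epi_iff_surjective _).1 inferInstance x

lemma cycle_of_d_eq_zero (i : ℤ) (y : C.X i) (hy : C.d i (i + 1) y = 0) :
    ∃ z : C.cycles i, C.iCycles i z = y :=
  let g : AddCommGrpCat.of (ULift.{v} ℤ) ⟶ C.X i :=
    AddCommGrpCat.ofHom ((zmultiplesHom _ y).comp AddEquiv.ulift.toAddMonoidHom)
  ⟨C.liftCycles g (i + 1) (by simp) (by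
    ext ⟨n⟩
    show C.d i (i + 1) (n • y) = 0
    rw [map_zsmul, hy, zsmul_zero]) (ULift.up 1),
    (ConcreteCategory.congr_hom (C.liftCycles_i g (i + 1) (by simp) _) (ULift.up 1)).trans (one_zsmul y)⟩

lemma homologyπ_eq_zero_iff (i : ℤ) (z : C.cycles i) :
    C.homologyπ i z = 0 ↔ ∃ y : C.X (i - 1), C.d (i - 1) i y = C.iCycles i z := by
  have he : (ShortComplex.mk _ _ (C.toCycles_comp_homologyπ (i - 1) i)).Exact :=
    ShortComplex.exact_of_g_is_cokernel _ (C.homologyIsCokernel (i - 1) i (by simp))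
  constructor
  · intro h
    obtain ⟨y, hy⟩ := (ShortComplex.ab_exact_iff _).1 he z h
    exact ⟨y, (ConcreteCategory.congr_hom (C.toCycles_i (i - 1) i) y).symm.trans (congrArg (C.iCycles i) hy)⟩
  · rintro ⟨y, hy⟩
    have : C.toCycles (i - 1) i y = z :=
      (AddCommGrpCat.mono_iff_injective (C.iCycles i)).1 inferInstance
        ((ConcreteCategory.congr_hom (C.toCycles_i (i - 1) i) y).trans hy)
    rw [← this]
    exact ConcreteCategory.congr_hom (C.toCycles_comp_homologyπ (i - 1) i) y

variable {L : ℕ → CochainComplex AddCommGrpCat.{v} ℤ} (p : ∀ n, C ⟶ L n)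

/-- A termwise product in abelian groups is a product on homology. -/
theorem bijective_homologyMap_prod (hp : ∀ j, Function.Bijective fun y : C.X j => fun n => (p n).f j y)
    (i : ℤ) : Function.Bijective fun x : C.homology i => fun n => homologyMap (p n) i x := by
  have hπ : ∀ n (z : C.cycles i), homologyMap (p n) i (C.homologyπ i z) = (L n).homologyπ i (cyclesMap (p n) i z) :=
    fun n z => ConcreteCategory.congr_hom (homologyπ_naturality (p n) i) z
  have hi : ∀ n (z : C.cycles i), (L n).iCycles i (cyclesMap (p n) i z) = (p n).f i (C.iCycles i z) :=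
    fun n z => ConcreteCategory.congr_hom (cyclesMap_i (p n) i) z
  have hd : ∀ n (a b : ℤ) (y : C.X a), (p n).f b (C.d a b y) = (L n).d a b ((p n).f a y) := fun n a b y =>
    (ConcreteCategory.congr_hom ((p n).comm a b) y).symm
  constructor
  · intro x x' h
    rw [← sub_eq_zero]
    obtain ⟨z, hz⟩ := exists_cycle i (x - x')
    rw [← hz, homologyπ_eq_zero_iff]
    have : ∀ n, ∃ y, (L n).d (i - 1) i y = (L n).iCycles i (cyclesMap (p n) i z) := fun n => by
      rw [← homologyπ_eq_zero_iff, ← hπ, hz, map_sub, sub_eq_zero]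
      exact congrFun h n
    choose y hy using this
    obtain ⟨Y, hY⟩ := (hp (i - 1)).2 y
    refine ⟨Y, (hp i).1 (funext fun n => ?_)⟩
    show (p n).f i (C.d (i - 1) i Y) = (p n).f i (C.iCycles i z)
    rw [hd, ← hi, ← hy, show (p n).f (i - 1) Y = y n from congrFun hY n]
  · intro x
    choose z hz using fun n => exists_cycle i (x n)
    obtain ⟨Y, hY⟩ := (hp i).2 fun n => (L n).iCycles i (z n)
    have h0 : C.d i (i + 1) Y = 0 := (hp (i + 1)).1 (funext fun n => by
      show (p n).f (i + 1) (C.d i (i + 1) Y) = (p n).f (i + 1) 0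
      rw [hd, show (p n).f i Y = _ from congrFun hY n, map_zero]
      exact ConcreteCategory.congr_hom ((L n).iCycles_d i (i + 1)) (z n))
    obtain ⟨Z, hZ⟩ := cycle_of_d_eq_zero i Y h0
    refine ⟨C.homologyπ i Z, funext fun n => ?_⟩
    show homologyMap (p n) i (C.homologyπ i Z) = x n
    rw [hπ, ← hz n]
    refine congrArg _ ((AddCommGrpCat.mono_iff_injective ((L n).iCycles i)).1 inferInstance ?_)
    rw [hi, hZ]
    exact congrFun hY n

end Homology

section Functor

variable {A : Type u} [Category.{v} A] [Abelian A] [IsGrothendieckAbelian.{v} A]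
  [HasDerivedCategory.{w₁} A] [HasDerivedCategory.{w₂} AddCommGrpCat.{v}]
  (G : A ⥤ AddCommGrpCat.{v}) [G.Additive]

local notation "up" => ComplexShape.up ℤ
local notation "qA" => HomotopyCategory.quotient A (ComplexShape.up ℤ)
local notation "GC" => Functor.mapHomologicalComplex G (ComplexShape.up ℤ)

variable (RF : DerivedCategory A ⥤ DerivedCategory AddCommGrpCat.{v})
  (β : G.mapHomotopyCategory (ComplexShape.up ℤ) ⋙ DerivedCategory.Qh ⟶ DerivedCategory.Qh ⋙ RF)
  [RF.IsRightDerivedFunctor β (HomotopyCategory.quasiIso A up)]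

/-- Comparison of the functor on a complex with the derived functor. -/
noncomputable def cmp (J : CochainComplex A ℤ) :
    Q.obj ((GC).obj J) ⟶ RF.obj (Q.obj J) :=
  (quotientCompQhIso AddCommGrpCat.{v}).inv.app ((GC).obj J) ≫ β.app ((qA).obj J) ≫
    RF.map ((quotientCompQhIso A).hom.app J)

variable {J J' : CochainComplex A ℤ}

lemma cmp_naturality (g : J ⟶ J') :
    Q.map ((GC).map g) ≫ cmp G RF β J' = cmp G RF β J ≫ RF.map (Q.map g) := by
  have h1 := (quotientCompQhIso AddCommGrpCat.{v}).inv.naturality ((GC).map g)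
  have h2 := (quotientCompQhIso A).hom.naturality g
  have h3 := β.naturality ((qA).map g)
  simp only [cmp, Category.assoc]
  rw [← RF.map_comp, ← h2, RF.map_comp, reassoc_of% h1]
  refine congrArg (_ ≫ ·) ?_
  exact ((Category.assoc _ _ _).symm.trans (congrArg (· ≫ _) h3)).trans (Category.assoc _ _ _)

include β in
lemma isIso_cmp [J.IsKInjective] : IsIso (cmp G RF β J) := by
  haveI := Groth.DAlg.RFTriangle.isIso_β G RF β J
  unfold cmp
  infer_instance

omit [IsGrothendieckAbelian.{v} A] in
lemma exists_Q_map [IsGrothendieckAbelian.{v} A] [J'.IsKInjective] (g : Q.obj J ⟶ Q.obj J') :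
    ∃ g' : J ⟶ J', Q.map g' = g :=
  Groth.DerivedCoh.KInjRes.Q_map_surjective J J' g

include β in
/-- The derived functor is additive. -/
lemma rf_map_add {X Y : DerivedCategory A} (f g : X ⟶ Y) : RF.map (f + g) = RF.map f + RF.map g := by
  obtain ⟨J, hJ, ⟨eX⟩⟩ := Groth.DerivedCoh.KInjRes.exists_kInjective_iso X
  obtain ⟨J', hJ', ⟨eY⟩⟩ := Groth.DerivedCoh.KInjRes.exists_kInjective_iso Y
  haveI := hJ
  haveI := hJ'
  obtain ⟨f', hf⟩ := exists_Q_map (eX.hom ≫ f ≫ eY.inv)
  obtain ⟨g', hg⟩ := exists_Q_map (eX.hom ≫ g ≫ eY.inv)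
  haveI := isIso_cmp G RF β (J := J)
  haveI := isIso_cmp G RF β (J := J')
  have key : ∀ (h : X ⟶ Y) (h' : J ⟶ J'), Q.map h' = eX.hom ≫ h ≫ eY.inv →
      RF.map h = RF.map eX.inv ≫ (inv (cmp G RF β J) ≫ Q.map ((GC).map h') ≫ cmp G RF β J') ≫ RF.map eY.hom := by
    intro h h' e
    rw [cmp_naturality, IsIso.inv_hom_id_assoc, ← RF.map_comp, ← RF.map_comp, e]
    simp
  rw [key f f' hf, key g g' hg, key (f + g) (f' + g') (by simp [hf, hg])]
  simp only [Functor.map_add, Preadditive.add_comp, Preadditive.comp_add]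

include β in
lemma rf_additive : RF.Additive := ⟨fun {_ _ f g} => rf_map_add G RF β f g⟩

variable [HasProductsOfShape ℕ A] [PreservesLimitsOfShape (Discrete ℕ) G]

open Groth.CohDerRlim

omit [IsGrothendieckAbelian.{v} A] [HasDerivedCategory.{w₁} A] [HasDerivedCategory.{w₂} AddCommGrpCat.{v}] in
lemma bijective_proj (J : ℕ → CochainComplex A ℤ) (j : ℤ) :
    Function.Bijective fun y : ((GC).obj (prodCx J)).X j => fun n => ((GC).map (projCx J n)).f j y := by
  have hc := isLimitOfPreserves G (limit.isLimit (Discrete.functor fun n => (J n).X j))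
  refine ⟨fun y y' h => Concrete.isLimit_ext _ hc y y' fun n => congrFun h n.as, fun y => ?_⟩
  let s : Cone (Discrete.functor (fun n => (J n).X j) ⋙ G) :=
    { pt := AddCommGrpCat.of (ULift.{v} ℤ)
      π := Discrete.natTrans fun n => AddCommGrpCat.ofHom
        ((zmultiplesHom _ (y n.as)).comp AddEquiv.ulift.toAddMonoidHom) }
  refine ⟨hc.lift s (ULift.up 1), funext fun n => ?_⟩
  refine (ConcreteCategory.congr_hom (hc.fac s ⟨n⟩) (ULift.up 1)).trans ?_
  exact one_zsmul (y n)

include β in
/-- Cohomology of the derived functor of a countable product. -/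
theorem bijective_homology_prod (K : ℕ → DerivedCategory A) [HasProduct K] (i : ℤ) :
    Function.Bijective fun x : (homologyFunctor AddCommGrpCat.{v} i).obj (RF.obj (∏ᶜ K)) =>
      fun n => (homologyFunctor AddCommGrpCat.{v} i).map (RF.map (Pi.π K n)) x := by
  choose J hJ e using fun n => Groth.DerivedCoh.KInjRes.exists_kInjective_iso (K n)
  let e' : ∀ n, Q.obj (J n) ≅ K n := fun n => (e n).some
  obtain ⟨hl⟩ := isLimit_prodFan_of_isKInjective J hJ
  haveI := isKInjective_prodCx hJ
  let s : Fan fun n => Q.obj (J n) := Fan.mk (∏ᶜ K) fun n => Pi.π K n ≫ (e' n).inv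
  let Φ : Q.obj (prodCx J) ≅ ∏ᶜ K :=
    { hom := Pi.lift fun n => Q.map (projCx J n) ≫ (e' n).hom
      inv := hl.lift s
      hom_inv_id := Fan.IsLimit.hom_ext hl _ _ fun n => by
        rw [Category.assoc]
        erw [hl.fac s ⟨n⟩]
        simp [s, prodFan]
      inv_hom_id := Pi.hom_ext _ _ fun n => by
        rw [Category.assoc, Pi.lift_π, ← Category.assoc, Category.id_comp]
        erw [hl.fac s ⟨n⟩]
        simp [s] }
  haveI := isIso_cmp G RF β (J := prodCx J)
  haveI := fun n => @isIso_cmp _ _ _ _ _ _ G _ RF β _ (J n) (hJ n)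
  let H := homologyFunctor AddCommGrpCat.{v} i
  let φ : (((GC).obj (prodCx J)).homology i) ≅ H.obj (RF.obj (∏ᶜ K)) :=
    ((homologyFunctorFactors AddCommGrpCat.{v} i).app _).symm ≪≫
      H.mapIso (asIso (cmp G RF β (prodCx J)) ≪≫ RF.mapIso Φ)
  let ψ : ∀ n, (((GC).obj (J n)).homology i) ≅ H.obj (RF.obj (K n)) := fun n =>
    ((homologyFunctorFactors AddCommGrpCat.{v} i).app _).symm ≪≫
      H.mapIso (asIso (cmp G RF β (J n)) ≪≫ RF.mapIso (e' n))
  have hcomm : ∀ n, φ.hom ≫ H.map (RF.map (Pi.π K n)) =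
      homologyMap ((GC).map (projCx J n)) i ≫ (ψ n).hom := fun n => by
    have hn := (homologyFunctorFactors AddCommGrpCat.{v} i).inv.naturality ((GC).map (projCx J n))
    simp only [φ, ψ, Iso.trans_hom, Functor.mapIso_hom, asIso_hom, Iso.symm_hom, Iso.app_inv, Category.assoc,
      ← Functor.map_comp]
    erw [reassoc_of% hn]
    refine congrArg (_ ≫ ·) ?_
    erw [← H.map_comp]
    rw [← Category.assoc (Q.map _), cmp_naturality, Category.assoc, ← RF.map_comp]
    simp [Φ]
  have hb := bijective_homologyMap_prod (C := (GC).obj (prodCx J)) (L := fun n => (GC).obj (J n))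
    (fun n => (GC).map (projCx J n)) (bijective_proj G J) i
  have hφ : ∀ z n, H.map (RF.map (Pi.π K n)) (φ.hom z) = (ψ n).hom (homologyMap ((GC).map (projCx J n)) i z) :=
    fun z n => ConcreteCategory.congr_hom (hcomm n) z
  refine ⟨fun x x' h => ?_, fun y => ?_⟩
  · have h' : φ.inv x = φ.inv x' := hb.1 (funext fun n => by
      refine ((ψ n).addCommGroupIsoToAddEquiv).injective ?_
      change (ψ n).hom _ = (ψ n).hom _
      rw [← hφ, ← hφ, Iso.inv_hom_id_apply, Iso.inv_hom_id_apply]
      exact congrFun h n)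
    simpa using congrArg φ.hom h'
  · obtain ⟨z, hz⟩ := hb.2 fun n => (ψ n).inv (y n)
    refine ⟨φ.hom z, funext fun n => ?_⟩
    show H.map (RF.map (Pi.π K n)) (φ.hom z) = y n
    rw [hφ, show homologyMap ((GC).map (projCx J n)) i z = _ from congrFun hz n, Iso.inv_hom_id_apply]

end Functor

end Groth.RFTrunc
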