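import Groth.Agent.RFTrunc.Prod
import Mathlib.Algebra.Homology.DerivedCategory.HomologySequence

/-!
# Derived functors of derived limits of eventually constant towers
-/

set_option autoImplicit false
set_option linter.style.haveILetI false
set_option backward.isDefEq.respectTransparency false

universe w₁ w₂ v u z

open CategoryTheory CategoryTheory.Limits CategoryTheory.Pretriangulated DerivedCategory

namespace Groth.RFTrunc

section Groups

lemma exists_sub_shift (N : ℕ) : ∀ (G : ℕ → Type z) [∀ n, AddCommGroup (G n)] (τ : ∀ n, G (n + 1) →+ G n),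
    (∀ n, N ≤ n → Function.Surjective (τ n)) → ∀ g : ∀ n, G n, ∃ g' : ∀ n, G n, ∀ n, g' n - τ n (g' (n + 1)) = g n := by
  induction N with
  | zero =>
    intro G _ τ h g
    choose f hf using fun n (x : G n) => h n (Nat.zero_le n) (x - g n)
    exact ⟨fun n => Nat.rec 0 (fun m x => f m x) n, fun n => by
      show _ - τ n (f n _) = g n
      rw [hf, sub_sub_cancel]⟩
  | succ N ih =>
    intro G _ τ h g
    obtain ⟨g', hg'⟩ := ih (fun n => G (n + 1)) (fun n => τ (n + 1)) (fun n hn => h (n + 1) (by omega))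
      fun n => g (n + 1)
    refine ⟨fun n => Nat.casesOn (motive := G) n (g 0 + τ 0 (g' 0)) g', fun n => ?_⟩
    match n with
    | 0 => exact add_sub_cancel_right _ _
    | n + 1 => exact hg' n

lemma exists_compatible (N : ℕ) : ∀ (G : ℕ → Type z) [∀ n, AddCommGroup (G n)] (τ : ∀ n, G (n + 1) →+ G n),
    (∀ n, N ≤ n → Function.Surjective (τ n)) → ∀ y : G N, ∃ x : ∀ n, G n, x N = y ∧ ∀ n, τ n (x (n + 1)) = x n := by
  induction N with
  | zero =>
    intro G _ τ h y
    choose f hf using fun n => h n (Nat.zero_le n)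
    exact ⟨fun n => Nat.rec y (fun m x => f m x) n, rfl, fun n => hf n _⟩
  | succ N ih =>
    intro G _ τ h y
    obtain ⟨x, hx, hx'⟩ := ih (fun n => G (n + 1)) (fun n => τ (n + 1)) (fun n hn => h (n + 1) (by omega)) y
    refine ⟨fun n => Nat.casesOn (motive := G) n (τ 0 (x 0)) x, hx, fun n => ?_⟩
    match n with
    | 0 => rfl
    | n + 1 => exact hx' n

lemma compatible_eq_zero {G : ℕ → Type z} [∀ n, AddCommGroup (G n)] (τ : ∀ n, G (n + 1) →+ G n) (N : ℕ)
    (h : ∀ n, N ≤ n → Function.Injective (τ n)) (x : ∀ n, G n) (hx : ∀ n, τ n (x (n + 1)) = x n)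
    (hN : x N = 0) (n : ℕ) : x n = 0 := by
  rcases le_total N n with hn | hn
  · induction n, hn using Nat.le_induction with
    | base => exact hN
    | succ n hn ih => exact h n hn (by rw [hx, ih, map_zero])
  · induction hn using Nat.decreasingInduction with
    | self => exact hN
    | of_succ k _ ih => rw [← hx, ih, map_zero]

end Groups

section Functor

variable {A : Type u} [Category.{v} A] [Abelian A] [IsGrothendieckAbelian.{v} A]
  [HasDerivedCategory.{w₁} A] [HasDerivedCategory.{w₂} AddCommGrpCat.{v}]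
  (G : A ⥤ AddCommGrpCat.{v}) [G.Additive] [HasProductsOfShape ℕ A] [PreservesLimitsOfShape (Discrete ℕ) G]

local notation "up" => ComplexShape.up ℤ

variable (RF : DerivedCategory A ⥤ DerivedCategory AddCommGrpCat.{v})
  (β : G.mapHomotopyCategory (ComplexShape.up ℤ) ⋙ DerivedCategory.Qh ⟶ DerivedCategory.Qh ⋙ RF)
  [RF.IsRightDerivedFunctor β (HomotopyCategory.quasiIso A up)]

/-- Cohomology of the derived functor. -/
noncomputable abbrev hRF (i : ℤ) : DerivedCategory A ⥤ AddCommGrpCat.{v} := RF ⋙ homologyFunctor AddCommGrpCat.{v} i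

variable (K : ℕ → DerivedCategory A) (t : ∀ n, K (n + 1) ⟶ K n) [HasProduct K]
  {L : DerivedCategory A} (a : L ⟶ ∏ᶜ K) (c : (∏ᶜ K) ⟶ L⟦(1 : ℤ)⟧)
  (hdist : Triangle.mk a (Pi.lift fun n : ℕ => Pi.π K n - Pi.π K (n + 1) ≫ t n) c ∈ distTriang _)

include β hdist in
/-- Derived limits of eventually constant towers. -/
theorem bijective_eventual (i : ℤ) (N : ℕ)
    (hb : ∀ n, N ≤ n → Function.Bijective ((hRF RF i).map (t n)))
    (hs : ∀ n, N ≤ n → Function.Surjective ((hRF RF (i - 1)).map (t n))) :
    Function.Bijective ((hRF RF i).map (a ≫ Pi.π K N)) := by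
  haveI := rf_additive G RF β
  let d := Pi.lift fun n : ℕ => Pi.π K n - Pi.π K (n + 1) ≫ t n
  have hd : ∀ (j : ℤ) (n : ℕ) (x : (hRF RF j).obj (∏ᶜ K)), (hRF RF j).map (Pi.π K n) ((hRF RF j).map d x) =
      (hRF RF j).map (Pi.π K n) x - (hRF RF j).map (t n) ((hRF RF j).map (Pi.π K (n + 1)) x) := fun j n x => by
    rw [← ConcreteCategory.comp_apply, ← Functor.map_comp, Pi.lift_π, Functor.map_sub, Functor.map_comp]
    rfl
  obtain ⟨c', hc'⟩ := Groth.DAlg.RFTriangle.exists_distinguished G RF β _ hdist
  constructor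
  · refine (injective_iff_map_eq_zero _).2 fun x hx => ?_
    have h0 : (hRF RF i).map a x = 0 := by
      apply (bijective_homology_prod G RF β K i).1
      funext n
      show (hRF RF i).map (Pi.π K n) ((hRF RF i).map a x) = (hRF RF i).map (Pi.π K n) 0
      rw [map_zero]
      refine compatible_eq_zero (G := fun m => (hRF RF i).obj (K m)) (fun m => ((hRF RF i).map (t m)).hom) N
        (fun m hm => (hb m hm).1) (fun m => (hRF RF i).map (Pi.π K m) ((hRF RF i).map a x)) (fun m => ?_) ?_ n
      · have hz : (hRF RF i).map (Pi.π K m) ((hRF RF i).map d ((hRF RF i).map a x)) = 0 := by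
          rw [show (hRF RF i).map d ((hRF RF i).map a x) = (hRF RF i).map (a ≫ d) x by rw [Functor.map_comp]; rfl,
            show a ≫ d = 0 from comp_distTriang_mor_zero₁₂ _ hdist, Functor.map_zero]
          exact map_zero _
        rw [hd, sub_eq_zero] at hz
        exact hz.symm
      · rw [← ConcreteCategory.comp_apply, ← Functor.map_comp]
        exact hx
    obtain ⟨g, hg⟩ := (ShortComplex.ab_exact_iff _).1
      (HomologySequence.exact₁ _ hc' (i - 1) i (by omega)) x h0
    obtain ⟨g', hg'⟩ := exists_sub_shift N (fun m => (hRF RF (i - 1)).obj (K m))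
      (fun m => ((hRF RF (i - 1)).map (t m)).hom) hs fun n => (hRF RF (i - 1)).map (Pi.π K n) g
    obtain ⟨y, hy⟩ := (bijective_homology_prod G RF β K (i - 1)).2 g'
    have hgy : (hRF RF (i - 1)).map d y = g := by
      apply (bijective_homology_prod G RF β K (i - 1)).1
      funext n
      show (hRF RF (i - 1)).map (Pi.π K n) ((hRF RF (i - 1)).map d y) = (hRF RF (i - 1)).map (Pi.π K n) g
      have hy' : ∀ m, (hRF RF (i - 1)).map (Pi.π K m) y = g' m := congrFun hy
      rw [hd, hy', hy']
      exact hg' n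
    rw [← hg, ← hgy]
    exact ConcreteCategory.congr_hom (HomologySequence.comp_δ _ hc' (i - 1) i (by omega)) y
  · intro y
    obtain ⟨x, hx, hx'⟩ := exists_compatible N (fun m => (hRF RF i).obj (K m))
      (fun m => ((hRF RF i).map (t m)).hom) (fun n hn => (hb n hn).2) y
    obtain ⟨g, hg⟩ := (bijective_homology_prod G RF β K i).2 x
    have hdg : (hRF RF i).map d g = 0 := by
      apply (bijective_homology_prod G RF β K i).1
      funext n
      show (hRF RF i).map (Pi.π K n) ((hRF RF i).map d g) = (hRF RF i).map (Pi.π K n) 0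
      have hg' : ∀ m, (hRF RF i).map (Pi.π K m) g = x m := congrFun hg
      rw [hd, map_zero, hg', hg']
      exact sub_eq_zero.2 (hx' n).symm
    obtain ⟨ξ, hξ⟩ := (ShortComplex.ab_exact_iff _).1 (HomologySequence.exact₂ _ hc' i) g hdg
    refine ⟨ξ, ?_⟩
    rw [Functor.map_comp, ConcreteCategory.comp_apply, ← hx]
    exact (congrArg ((hRF RF i).map (Pi.π K N)) hξ).trans (congrFun hg N)

end Functor

end Groth.RFTrunc
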