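import Groth.Agent.RFTrunc.Tower
import Groth.Agent.Misc4.RFBounded
import Mathlib.CategoryTheory.Triangulated.TStructure.TruncLEGT
import Mathlib.Algebra.Homology.DerivedCategory.TStructure

/-!
# Derived functors of truncations
-/

set_option autoImplicit false
set_option linter.style.haveILetI false
set_option backward.isDefEq.respectTransparency false
set_option maxHeartbeats 1000000

universe w₁ w₂ v u

open CategoryTheory CategoryTheory.Limits CategoryTheory.Pretriangulated DerivedCategory

namespace Groth.RFTrunc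

lemma bijective_comp {P Q R : AddCommGrpCat.{v}} (f : P ⟶ Q) (g : Q ⟶ R) (hf : Function.Bijective f)
    (hg : Function.Bijective g) : Function.Bijective (f ≫ g) :=
  hg.comp hf

variable {A : Type u} [Category.{v} A] [Abelian A] [IsGrothendieckAbelian.{v} A]
  [HasDerivedCategory.{w₁} A] [HasDerivedCategory.{w₂} AddCommGrpCat.{v}]
  (G : A ⥤ AddCommGrpCat.{v}) [G.Additive] [HasInjectiveResolutions A]

local notation "up" => ComplexShape.up ℤ
local notation "tA" => (DerivedCategory.TStructure.t : CategoryTheory.Triangulated.TStructure (DerivedCategory A))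

variable (RF : DerivedCategory A ⥤ DerivedCategory AddCommGrpCat.{v})
  (β : G.mapHomotopyCategory (ComplexShape.up ℤ) ⋙ DerivedCategory.Qh ⟶ DerivedCategory.Qh ⋙ RF)
  [RF.IsRightDerivedFunctor β (HomotopyCategory.quasiIso A up)]
  (X : DerivedCategory A)

omit [IsGrothendieckAbelian.{v} A] [HasInjectiveResolutions A] in
lemma isIso_H_truncGEπ {n j : ℤ} (h : n ≤ j) :
    IsIso ((homologyFunctor A j).map (((tA).truncGEπ n).app X)) := by
  let T := ((tA).triangleLTGE n).obj X
  have hT : T ∈ distTriang _ := (tA).triangleLTGE_distinguished _ X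
  haveI h1 : DerivedCategory.IsLE T.obj₁ (n - 1) :=
    inferInstanceAs ((tA).IsLE (((tA).triangleLTGE n).obj X).obj₁ _)
  haveI : Mono ((homologyFunctor A j).map T.mor₂) := (HomologySequence.mono_homologyMap_mor₂_iff T hT j).2
    ((T.obj₁.isZero_of_isLE (n - 1) j (by omega)).eq_of_src _ _)
  haveI : Epi ((homologyFunctor A j).map T.mor₂) := (HomologySequence.epi_homologyMap_mor₂_iff T hT j (j + 1) rfl).2
    ((T.obj₁.isZero_of_isLE (n - 1) (j + 1) (by omega)).eq_of_tgt _ _)
  exact isIso_of_mono_of_epi ((homologyFunctor A j).map T.mor₂)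

variable (N : ℕ) (hX : ∀ (j : ℤ) (p : ℕ), N ≤ p → IsZero ((G.rightDerived p).obj ((homologyFunctor A j).obj X)))

include β hX in
/-- One step of truncation is invisible in high degrees. -/
theorem step (a b : ℤ) (hab : a + 1 = b) (i : ℤ) (hi : a + N ≤ i) :
    Function.Bijective ((hRF RF i).map (((tA).natTransTruncGEOfLE a b (by omega)).app X)) ∧
      Function.Surjective ((hRF RF (i - 1)).map (((tA).natTransTruncGEOfLE a b (by omega)).app X)) := by
  let Y := ((tA).truncGE a).obj X
  let Z := ((tA).truncGE b).obj X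
  let τ : Y ⟶ Z := ((tA).natTransTruncGEOfLE a b (by omega)).app X
  haveI hY : DerivedCategory.IsGE Y a := inferInstanceAs ((tA).IsGE (((tA).truncGE a).obj X) a)
  haveI hZ : DerivedCategory.IsGE Z b := inferInstanceAs ((tA).IsGE (((tA).truncGE b).obj X) b)
  have hτ : ∀ j, b ≤ j → IsIso ((homologyFunctor A j).map τ) := fun j hj => by
    haveI := isIso_H_truncGEπ X (n := a) (j := j) (by omega)
    haveI : IsIso ((homologyFunctor A j).map (((tA).truncGEπ a).app X) ≫ (homologyFunctor A j).map τ) := by
      rw [← Functor.map_comp, show ((tA).truncGEπ a).app X ≫ τ = _ from Triangulated.TStructure.π_natTransTruncGEOfLE_app _ _ _ _ _]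
      exact isIso_H_truncGEπ X hj
    exact IsIso.of_isIso_comp_left ((homologyFunctor A j).map (((tA).truncGEπ a).app X)) _
  obtain ⟨F, f, δ, hT⟩ := distinguished_cocone_triangle₁ τ
  let T := Triangle.mk f τ δ
  have hdz : ∀ j, j ≠ a → IsZero ((homologyFunctor A j).obj F) := fun j hj => by
    refine (HomologySequence.exact₁ T hT (j - 1) j (by omega)).isZero_of_both_zeros ?_ ?_
    · by_cases hb : b ≤ j - 1
      · haveI := hτ (j - 1) hb
        exact (HomologySequence.epi_homologyMap_mor₂_iff T hT (j - 1) j (by omega)).1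
          (inferInstanceAs (Epi ((homologyFunctor A (j - 1)).map τ)))
      · exact (Z.isZero_of_isGE b (j - 1) (by omega)).eq_of_src _ _
    · by_cases hb : b ≤ j
      · haveI := hτ j hb
        exact (HomologySequence.mono_homologyMap_mor₂_iff T hT j).1
          (inferInstanceAs (Mono ((homologyFunctor A j).map τ)))
      · exact (Y.isZero_of_isGE a j (by omega)).eq_of_tgt _ _
  haveI : F.IsGE a := (isGE_iff F a).2 fun j hj => hdz j (by omega)
  haveI : F.IsLE a := (isLE_iff F a).2 fun j hj => hdz j (by omega)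
  obtain ⟨M, ⟨e⟩⟩ := exists_iso_singleFunctor_obj_of_isGE_of_isLE F a
  haveI : Mono ((homologyFunctor A a).map f) :=
    (HomologySequence.mono_homologyMap_mor₁_iff T hT (a - 1) a (by omega)).2
      ((Z.isZero_of_isGE b (a - 1) (by omega)).eq_of_src _ _)
  haveI : Epi ((homologyFunctor A a).map f) :=
    (HomologySequence.epi_homologyMap_mor₁_iff T hT a).2 ((Z.isZero_of_isGE b a (by omega)).eq_of_tgt _ _)
  haveI hif := isIso_of_mono_of_epi ((homologyFunctor A a).map f)
  haveI := isIso_H_truncGEπ X (le_refl a)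
  let eM : M ≅ (homologyFunctor A a).obj X :=
    ((singleFunctorCompHomologyFunctorIso A a).app M).symm ≪≫ (homologyFunctor A a).mapIso e.symm ≪≫
      @asIso _ _ _ _ ((homologyFunctor A a).map f) hif ≪≫
      (@asIso _ _ _ _ ((homologyFunctor A a).map (((tA).truncGEπ a).app X)) (isIso_H_truncGEπ X (le_refl a))).symm
  have hzero : ∀ k, a + N ≤ k → IsZero ((hRF RF k).obj F) := fun k hk => by
    obtain ⟨e'⟩ := Groth.Misc4.RFBounded.nonempty_homology_single G RF β M a k (k - a).toNat (by omega)
    exact ((hX a (k - a).toNat (by omega)).of_iso ((G.rightDerived _).mapIso eM)).of_iso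
      (((hRF RF k).mapIso e) ≪≫ e')
  obtain ⟨c', hc'⟩ := Groth.DAlg.RFTriangle.exists_distinguished G RF β T hT
  haveI h1 : Epi ((hRF RF i).map τ) := (HomologySequence.epi_homologyMap_mor₂_iff _ hc' i (i + 1) rfl).2
    ((hzero (i + 1) (by omega)).eq_of_tgt _ _)
  haveI h2 : Mono ((hRF RF i).map τ) := (HomologySequence.mono_homologyMap_mor₂_iff _ hc' i).2
    ((hzero i hi).eq_of_src _ _)
  haveI h3 : Epi ((hRF RF (i - 1)).map τ) := (HomologySequence.epi_homologyMap_mor₂_iff _ hc' (i - 1) i (by omega)).2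
    ((hzero i hi).eq_of_tgt _ _)
  exact ⟨⟨(AddCommGrpCat.mono_iff_injective _).1 h2, (AddCommGrpCat.epi_iff_surjective _).1 h1⟩,
    (AddCommGrpCat.epi_iff_surjective _).1 h3⟩

include β hX in
/-- Several steps of truncation. -/
theorem steps (i m : ℤ) (hm : m + N - 1 ≤ i) : ∀ (k : ℕ) (a : ℤ) (ha : a + k = m),
    Function.Bijective ((hRF RF i).map (((tA).natTransTruncGEOfLE a m (by omega)).app X))
  | 0, a, ha => by
    obtain rfl : a = m := by omega
    rw [Triangulated.TStructure.natTransTruncGEOfLE_refl_app, CategoryTheory.Functor.map_id]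
    exact Function.bijective_id
  | k + 1, a, ha => by
    have e := (tA).natTransTruncGEOfLE_trans_app a (a + 1) m (show a ≤ a + 1 by omega) (show a + 1 ≤ m by omega) X
    rw [← e, Functor.map_comp]
    exact bijective_comp _ _ (step G RF β X N hX a (a + 1) rfl i (by omega)).1
      (steps i m hm k (a + 1) (by omega))

/-- The truncations from below, as a sequence. -/
noncomputable abbrev tauSeq (n : ℕ) : DerivedCategory A := ((tA).truncGE (-(n : ℤ))).obj X

variable [HasProductsOfShape ℕ A] [PreservesLimitsOfShape (Discrete ℕ) G]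
  [HasProduct (tauSeq X)]

include β hX in
/-- In high degrees the derived functor only sees a truncation. -/
theorem bijective_truncGEπ
    (htri : ∃ c : (∏ᶜ tauSeq X) ⟶ X⟦(1 : ℤ)⟧,
      Triangle.mk (Pi.lift (f := tauSeq X) fun n : ℕ => ((tA).truncGEπ (-(n : ℤ))).app X)
        (Pi.lift fun n : ℕ => Pi.π (tauSeq X) n -
          Pi.π (tauSeq X) (n + 1) ≫
            ((tA).natTransTruncGEOfLE (-((n + 1 : ℕ) : ℤ)) (-(n : ℤ))
              (Int.neg_le_neg (Int.ofNat_le.mpr (Nat.le_succ n)))).app X) c ∈ distTriang _)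
    (i m : ℤ) (hm : m + N - 1 ≤ i) :
    Function.Bijective ((hRF RF i).map (((tA).truncGEπ m).app X)) := by
  obtain ⟨c, hc⟩ := htri
  let n₀ := max ((N : ℤ) - 1 - i).toNat (-m).toNat
  have hb := bijective_eventual G RF β _ _ _ c hc i n₀
    (fun n hn => (step G RF β X N hX (-((n + 1 : ℕ) : ℤ)) (-(n : ℤ)) (by omega) i (by omega)).1)
    (fun n hn => (step G RF β X N hX (-((n + 1 : ℕ) : ℤ)) (-(n : ℤ)) (by omega) i (by omega)).2)
  rw [Pi.lift_π] at hb
  rw [← (tA).π_natTransTruncGEOfLE_app (-(n₀ : ℤ)) m (by omega) X, Functor.map_comp]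
  exact bijective_comp _ _ hb (steps G RF β X N hX i m hm (m + n₀).toNat (-(n₀ : ℤ)) (by omega))

end Groth.RFTrunc
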